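import Cfsg.Agent.Lib.Helper67.LSF.Defs

/-!
# LSF package [BWD] (S5286)

Conjugation by an element of the group `GG F` between subgroups of `lam S` is a map of the system,
from the packages [PATH], [RED], [FIXLET], [BWDCORE].
-/

set_option autoImplicit false

namespace Cfsg.Agent.Lib.Helper9.LSF

open Cfsg Cfsg.Agent.Lib.Helper67.LSF

universe u

theorem pkgBwd : PkgPath.{u} → PkgRed.{u} → PkgFixLet.{u} → PkgBwdCore.{u} → PkgBwd.{u} := by
  intro hPath hRed hFix hCore Ω _ S F g hg P hP φ hφ hconj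
  obtain ⟨L, q, hLq, rfl⟩ := hPath S F g hg
  obtain ⟨L', hL'q, hred, hmk⟩ := hRed S F L q hLq
  rw [← hmk] at hconj
  have key : ∀ x : P, q * lam S ⟨x, hP x.2⟩ * q⁻¹ = lam S ⟨φ x, hφ x⟩ ∧
      autF F (lam S ⟨x, hP x.2⟩) (FreeGroup.mk L') = FreeGroup.mk L' := by
    intro x
    have h := hconj x
    have h2 : aGen F ⟨φ x, hφ x⟩ *
        (SemidirectProduct.inr q * SemidirectProduct.inl (FreeGroup.mk L')) =
        (SemidirectProduct.inr q * SemidirectProduct.inl (FreeGroup.mk L')) *
          aGen F ⟨x, hP x.2⟩ := by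
      rw [h]; group
    have hr := congrArg SemidirectProduct.right h2
    have hl := congrArg SemidirectProduct.left h2
    simp only [aGen, SemidirectProduct.mul_right, SemidirectProduct.mul_left,
      SemidirectProduct.right_inr, SemidirectProduct.right_inl, SemidirectProduct.left_inr,
      SemidirectProduct.left_inl, mul_one, one_mul, map_one] at hr hl
    refine ⟨mul_inv_eq_iff_eq_mul.mpr hr.symm, ?_⟩
    have e1 : autF F (lam S ⟨φ x, hφ x⟩ * q) (FreeGroup.mk L') =
        autF F q (FreeGroup.mk L') := by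
      rw [map_mul, MulAut.mul_apply]; exact hl
    rw [hr, map_mul, MulAut.mul_apply] at e1
    exact (autF F q).injective e1
  refine hCore S F L' q hL'q P hP φ hφ ?_ (fun x => (key x).1)
  intro x ℓ hℓ
  exact hFix (xperm F (lam S ⟨x, hP x.2⟩)) L' hred (key x).2 ℓ hℓ

end Cfsg.Agent.Lib.Helper9.LSF
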