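import Cfsg.Agent.Lib.Helper67.LSF.Defs

/-!
# LSF package [STAB] (S5286)

The elements of the group `GG F` with trivial free part are those of `lam S`,
from the packages [PATH], [RED], [INV].
-/

set_option autoImplicit false

namespace Cfsg.Agent.Lib.Helper9.LSF

open Cfsg Cfsg.Agent.Lib.Helper67.LSF

universe u

theorem pkgStab : PkgPath.{u} → PkgRed.{u} → PkgInv.{u} → PkgStab.{u} := by
  classical
  intro hPath hRed hInv Ω _ S F g hg hleft
  obtain ⟨L, q, hLq, rfl⟩ := hPath S F g hg
  obtain ⟨L', hL'q, hred, hmk⟩ := hRed S F L q hLq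
  rw [← hmk] at hleft ⊢
  have h1 : autF F q (FreeGroup.mk L') = 1 := by
    have h := hleft
    simp only [SemidirectProduct.mul_left, SemidirectProduct.left_inr,
      SemidirectProduct.right_inr, SemidirectProduct.left_inl, one_mul] at h
    exact h
  have h2 : FreeGroup.mk L' = (1 : FreeGroup (X F)) :=
    (autF F q).injective (h1.trans (map_one (autF F q)).symm)
  have h3 : L' = [] := by
    have h := congrArg FreeGroup.toWord h2
    rw [FreeGroup.toWord_mk, hred.reduce_eq, FreeGroup.toWord_one] at h
    exact h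
  subst h3
  obtain ⟨s, hs⟩ := (hInv S F).1 q hL'q
  refine ⟨s, ?_⟩
  rw [h2, hs]
  simp [aGen]

end Cfsg.Agent.Lib.Helper9.LSF
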